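import Mathlib
import Groth.Prelude.Def_SGA3b
import Groth.Agent.Lib.Helper6.Isotriv.Main

/-!
# Density of the torsion in a commutative group with an open subgroup of multiplicative type,
part 1 (helper6)

Divisibility of the group of characters of a finitely generated commutative group with values in a
divisible group, up to torsion; points of a group of multiplicative type of finite type over an
algebraically closed field.
-/

set_option autoImplicit false
set_option linter.unusedSectionVars false
set_option linter.unusedVariables false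
set_option linter.unusedSimpArgs false
set_option linter.style.haveILetI false
set_option linter.overlappingInstances false
set_option maxHeartbeats 800000
set_option synthInstance.maxHeartbeats 400000

universe u
open TensorProduct SGA3b Coalgebra WithConv
open Groth.Agent.Lib.Helper6.MultType Groth.Agent.Lib.Helper6.Isotriv

namespace Groth.Agent.Lib.Helper6.TorsOpen

section Baer

/-- Let `𝔸` be a finitely generated abelian group and `Q` an injective one.  Every homomorphism
`𝔸 → Q` is, up to torsion, divisible by `r`. -/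
theorem exists_hom_div {𝔸 : Type*} [AddCommGroup 𝔸] [Module.Finite ℤ 𝔸] {Q : Type*}
    [AddCommGroup Q] (hQ : Module.Baer ℤ Q) (χ : 𝔸 →+ Q) (r : ℕ) (hr : 0 < r) :
    ∃ (h : 𝔸 →+ Q) (s : ℕ), 0 < s ∧ ∀ x, s • (χ x + r • h x) = 0 := by
  haveI : IsNoetherian ℤ 𝔸 := inferInstance
  let K : ℕ →o Submodule ℤ 𝔸 :=
    ⟨fun n =>
      { carrier := {x | (r ^ n) • x = 0}
        add_mem' := by
          intro a b ha hb
          simp only [Set.mem_ofPred_eq] at ha hb ⊢
          rw [smul_add, ha, hb, add_zero]
        zero_mem' := by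
          simp only [Set.mem_ofPred_eq]
          exact smul_zero _
        smul_mem' := by
          intro c x hx
          simp only [Set.mem_ofPred_eq] at hx ⊢
          rw [smul_comm, hx, smul_zero] },
      by
        intro n m hnm x hx
        obtain ⟨d, rfl⟩ := Nat.exists_eq_add_of_le hnm
        show (r ^ (n + d)) • x = 0
        have hx' : (r ^ n) • x = 0 := hx
        rw [pow_add, mul_comm, mul_smul, hx', smul_zero]⟩
  obtain ⟨n, hn⟩ := monotone_stabilizes_iff_noetherian.mpr (inferInstance : IsNoetherian ℤ 𝔸) K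
  have hkey : ∀ x : 𝔸, (r ^ (n + 1)) • x = 0 → (r ^ n) • x = 0 := by
    intro x hx
    have h1 : x ∈ K (n + 1) := hx
    rw [← hn (n + 1) (Nat.le_succ n)] at h1
    exact h1
  let f : 𝔸 →+ 𝔸 :=
    { toFun := fun x => (r ^ (n + 1)) • x
      map_zero' := smul_zero _
      map_add' := fun x y => smul_add _ x y }
  let g : 𝔸 →+ Q :=
    { toFun := fun x => (r ^ n) • χ x
      map_zero' := by rw [map_zero, smul_zero]
      map_add' := fun x y => by rw [map_add, smul_add] }
  have hfg : f.ker ≤ g.ker := by
    intro x hx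
    rw [AddMonoidHom.mem_ker] at hx ⊢
    have hx' : (r ^ (n + 1)) • x = 0 := hx
    show (r ^ n) • χ x = 0
    rw [← map_nsmul χ (r ^ n) x, hkey x hx', map_zero]
  obtain ⟨h', hh'⟩ := hQ.extension_property_addMonoidHom (QuotientAddGroup.kerLift f)
    (QuotientAddGroup.kerLift_injective f) (QuotientAddGroup.lift f.ker g hfg)
  have hh'' : ∀ x, (r ^ (n + 1)) • h' x = (r ^ n) • χ x := by
    intro x
    have h1 := congrArg (fun φ : 𝔸 ⧸ f.ker →+ Q => φ (QuotientAddGroup.mk x)) hh'
    have h2 : h' (f x) = g x := h1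
    rw [← map_nsmul h' (r ^ (n + 1)) x]
    exact h2
  refine ⟨-h', r ^ n, pow_pos hr n, fun x => ?_⟩
  rw [AddMonoidHom.neg_apply, smul_neg, smul_add, smul_neg, smul_smul, ← pow_succ, hh'',
    add_neg_cancel]

/-- Let `M` be a finitely generated commutative group and `Q` a divisible commutative group.
Every character `M → Q` is, up to a torsion character, an `r`-th power. -/
theorem exists_char_div {M : Type*} [CommGroup M] [Group.FG M] {Q : Type*} [CommGroup Q]
    (hQ : ∀ (q : Q) (n : ℕ), 0 < n → ∃ y : Q, y ^ n = q) (χ : M →* Q) (r : ℕ) (hr : 0 < r) :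
    ∃ (d : M →* Q) (s : ℕ), 0 < s ∧ ∀ m, (χ m * d m ^ r) ^ s = 1 := by
  haveI : Module.Finite ℤ (Additive M) :=
    Module.Finite.iff_addGroup_fg.mpr (GroupFG.iff_add_fg.mp inferInstance)
  letI : DivisibleBy (Additive Q) ℕ := divisibleByOfSMulRightSurj (Additive Q) ℕ (by
    intro n hn q
    obtain ⟨y, hy⟩ := hQ (Additive.toMul q) n (Nat.pos_of_ne_zero hn)
    exact ⟨Additive.ofMul y, congrArg Additive.ofMul hy⟩)
  letI : DivisibleBy (Additive Q) ℤ := AddGroup.divisibleByIntOfDivisibleByNat (Additive Q)
  have hB : Module.Baer ℤ (Additive Q) := Module.Baer.of_divisible (Additive Q)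
  obtain ⟨h, s, hs, hh⟩ := exists_hom_div hB (MonoidHom.toAdditive χ) r hr
  refine ⟨MonoidHom.toAdditive.symm h, s, hs, fun m => ?_⟩
  exact congrArg Additive.toMul (hh (Additive.ofMul m))

end Baer

section Points

variable {L : Type u} [Field L] {A : Type u} [CommRing A] [HopfAlgebra L A]

/-- Over an algebraically closed field, a group of multiplicative type of finite type is
diagonalisable. -/
theorem isDiagFT_of_algClosed [IsAlgClosed L] (hft : Algebra.FiniteType L A)
    (hA : IsMultType L A) : IsDiagFT L A := by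
  obtain ⟨k', _, _, hfin, hsep, hd⟩ := isotrivial_of_field L A hft hA
  haveI := hfin
  haveI : IsPurelyInseparable L k' := inferInstance
  obtain ⟨M, _, _, ⟨E⟩⟩ := hd
  have hdiag : IsDiag k' (k' ⊗[L] A) := ⟨M, inferInstance, ⟨E⟩⟩
  have hE : Sp L A k' = ⊤ := span_groupLike_eq_top_of_isDiag hdiag
  exact isDiagFT_of_span_groupLike hft (span_groupLike_eq_top_of_insep A k' hE)

/-- evaluation of the points of a group at a group-like element (a character), as a monoid
homomorphism -/
noncomputable def evGL {a : A} (ha : IsGroupLikeElem L a) : WithConv (A →ₐ[L] L) →* L where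
  toFun φ := φ.ofConv a
  map_one' := by
    show algebraMap L L (counit (R := L) a) = 1
    rw [ha.counit_eq_one, map_one]
  map_mul' := by
    intro f g
    have h1 := AlgHom.convMul_apply f g a
    rw [ha.comul_eq_tmul_self, Algebra.TensorProduct.lift_tmul] at h1
    exact h1

lemma evGL_apply {a : A} (ha : IsGroupLikeElem L a) (φ : WithConv (A →ₐ[L] L)) :
    evGL ha φ = φ.ofConv a := rfl

/-- Over an algebraically closed field, every point of a group of multiplicative type of finite
type is, up to a torsion point, an `r`-th power. -/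
theorem exists_point_div [IsAlgClosed L] (hft : Algebra.FiniteType L A) (hA : IsMultType L A)
    (g : WithConv (A →ₐ[L] L)) (r : ℕ) (hr : 0 < r) :
    ∃ (d : WithConv (A →ₐ[L] L)) (s : ℕ), 0 < s ∧ (g * d ^ r) ^ s = 1 := by
  obtain ⟨M, _, hfg, ⟨E⟩⟩ := isDiagFT_of_algClosed hft hA
  haveI := hfg
  let ι : MonoidAlgebra L M →ₐ[L] A :=
    ((E.symm : MonoidAlgebra L M →ₐc[L] A) : MonoidAlgebra L M →ₐ[L] A)
  let ρ : A →ₐ[L] MonoidAlgebra L M :=
    ((E : A →ₐc[L] MonoidAlgebra L M) : A →ₐ[L] MonoidAlgebra L M)
  have hιρ : ∀ a, ι (ρ a) = a := fun a => E.symm_apply_apply a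
  have hρι : ∀ z, ρ (ι z) = z := fun z => E.apply_symm_apply z
  let am : M → A := fun m => ι (MonoidAlgebra.single m 1)
  have ham_mul : ∀ m n, am (m * n) = am m * am n := by
    intro m n
    show ι _ = ι _ * ι _
    rw [← map_mul, MonoidAlgebra.single_mul_single, mul_one]
  have ham_one : am 1 = 1 := by
    show ι (MonoidAlgebra.single 1 1) = 1
    rw [← MonoidAlgebra.one_def, map_one]
  have ham_gl : ∀ m, IsGroupLikeElem L (am m) := fun m =>
    (MonoidAlgebra.isGroupLikeElem_single_one (R := L) (A := L) m).map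
      (E.symm : MonoidAlgebra L M →ₐc[L] A)
  have hext : ∀ φ ψ : A →ₐ[L] L, (∀ m, φ (am m) = ψ (am m)) → φ = ψ := by
    intro φ ψ h
    have h1 : φ.comp ι = ψ.comp ι := by
      apply (MonoidAlgebra.lift L L M).symm.injective
      apply MonoidHom.ext
      intro m
      exact h m
    apply AlgHom.ext
    intro a
    have h2 := congrArg (fun f : MonoidAlgebra L M →ₐ[L] L => f (ρ a)) h1
    simp only [AlgHom.comp_apply, hιρ] at h2
    exact h2
  let χ₀ : M →* L :=
    { toFun := fun m => g.ofConv (am m)
      map_one' := by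
        show g.ofConv (am 1) = 1
        rw [ham_one, map_one]
      map_mul' := fun m n => by
        show g.ofConv (am (m * n)) = g.ofConv (am m) * g.ofConv (am n)
        rw [ham_mul, map_mul] }
  have hQ : ∀ (q : Lˣ) (n : ℕ), 0 < n → ∃ y : Lˣ, y ^ n = q := by
    intro q n hn
    obtain ⟨z, hz⟩ := IsAlgClosed.exists_pow_nat_eq (q : L) hn
    have hz0 : z ≠ 0 := by
      rintro rfl
      rw [zero_pow hn.ne'] at hz
      exact q.ne_zero hz.symm
    refine ⟨Units.mk0 z hz0, Units.ext ?_⟩
    rw [Units.val_pow_eq_pow_val, Units.val_mk0, hz]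
  obtain ⟨d₀, s, hs, hd⟩ := exists_char_div hQ χ₀.toHomUnits r hr
  let d : WithConv (A →ₐ[L] L) :=
    toConv ((MonoidAlgebra.lift L L M ((Units.coeHom L).comp d₀)).comp ρ)
  refine ⟨d, s, hs, ?_⟩
  apply WithConv.ofConv_injective
  apply hext
  intro m
  have hgl := ham_gl m
  show evGL hgl ((g * d ^ r) ^ s) = evGL hgl 1
  rw [map_pow, map_mul, map_pow, map_one]
  have hdm : evGL hgl d = ((d₀ m : Lˣ) : L) := by
    show MonoidAlgebra.lift L L M ((Units.coeHom L).comp d₀) (ρ (ι (MonoidAlgebra.single m 1))) = _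
    rw [hρι, MonoidAlgebra.lift_single, one_smul]
    rfl
  have hgm : evGL hgl g = ((χ₀.toHomUnits m : Lˣ) : L) := rfl
  rw [hdm, hgm, ← Units.val_pow_eq_pow_val, ← Units.val_mul, ← Units.val_pow_eq_pow_val, hd m,
    Units.val_one]

end Points

end Groth.Agent.Lib.Helper6.TorsOpen
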