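import Mathlib
import Groth.Prelude.Def_SGA3b
import Groth.Agent.Lib.Helper6.TorsOpen.O1
import Groth.Agent.Lib.Helper2.Hopf.PointTranslate
import Groth.Agent.Lib.Helper2.Hopf.OTEigen
import Groth.Agent.Lib.Helper2.Sep.Tensor

/-!
# Density of the torsion in a commutative group with an open subgroup of multiplicative type,
part 2 (helper6)

Points of a commutative algebraic group `H` over an algebraically closed field with an open
subgroup `G` of multiplicative type: `G` has finite index, and every point of `H` is congruent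
modulo `G` to a torsion point.  Translations by torsion points preserve the ideals of the kernels
of the power maps.
-/

set_option autoImplicit false
set_option linter.unusedSectionVars false
set_option linter.unusedVariables false
set_option linter.unusedSimpArgs false
set_option linter.style.haveILetI false
set_option linter.overlappingInstances false
set_option maxHeartbeats 800000
set_option synthInstance.maxHeartbeats 400000

universe u
open TensorProduct SGA3b Coalgebra WithConv
open Groth.Agent.Helper2.HopfLib

namespace Groth.Agent.Lib.Helper6.TorsOpen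

section PowConv

variable {R : Type u} [CommRing R] {A : Type u} [CommRing A] [HopfAlgebra R A]

/-- the kernel of the `n`-th power map lies in the kernel of the `nN`-th power map -/
lemma torsionIdeal_mul_le (n N : ℕ) : torsionIdeal R A (n * N) ≤ torsionIdeal R A n := by
  unfold torsionIdeal
  rw [Ideal.map_le_iff_le_comap]
  intro y hy
  rw [Ideal.mem_comap]
  have h1 : powConv R A (n * N) y = powConv R A n (powConv R A N y) := by
    rw [← Groth.Agent.Helper2.OT.powConv_comp]
    rfl
  rw [h1]
  apply Ideal.mem_map_of_mem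
  rw [RingHom.mem_ker] at hy ⊢
  show counit (R := R) (powConv R A N y) = 0
  rw [Groth.Agent.Helper2.OT.counit_powConv]
  exact hy

end PowConv

section

variable {L : Type u} [Field L] {C : Type u} [CommRing C] [HopfAlgebra L C]
variable {A : Type u} [CommRing A] [HopfAlgebra L A]

lemma one_apply (c : C) : (1 : WithConv (C →ₐ[L] L)).ofConv c = counit (R := L) c := rfl

lemma apply_trP (ψ t : WithConv (C →ₐ[L] L)) (c : C) :
    ψ.ofConv (trP t.ofConv c) = (t * ψ).ofConv c :=
  congrArg (fun f : C →ₐ[L] L => f c) (comp_trP ψ.ofConv t.ofConv)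

/-- pulling back points along a homomorphism of groups -/
noncomputable def pbHom (π : C →ₐc[L] A) : WithConv (A →ₐ[L] L) →* WithConv (C →ₐ[L] L) where
  toFun χ := toConv (χ.ofConv.comp (π : C →ₐ[L] A))
  map_one' := by
    show toConv ((1 : WithConv (A →ₐ[L] L)).ofConv.comp (π : C →ₐ[L] A)) = 1
    apply WithConv.ofConv_injective
    apply AlgHom.ext
    intro c
    show algebraMap L L (counit (R := L) (π c)) = algebraMap L L (counit (R := L) c)
    rw [CoalgHomClass.counit_comp_apply]
  map_mul' := by
    intro f g
    show toConv ((f * g).ofConv.comp (π : C →ₐ[L] A)) = _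
    rw [AlgHom.convMul_comp_bialgHom_distrib]

lemma pbHom_apply (π : C →ₐc[L] A) (χ : WithConv (A →ₐ[L] L)) (c : C) :
    (pbHom π χ).ofConv c = χ.ofConv (π c) := rfl

/-- points of the group as constant maps from the group to itself -/
noncomputable def postHom : WithConv (C →ₐ[L] L) →* WithConv (C →ₐ[L] C) where
  toFun t := toConv ((Algebra.ofId L C).comp t.ofConv)
  map_one' := by
    show toConv ((Algebra.ofId L C).comp (1 : WithConv (C →ₐ[L] L)).ofConv) = 1
    apply WithConv.ofConv_injective
    apply AlgHom.ext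
    intro c
    rfl
  map_mul' := by
    intro f g
    show toConv ((Algebra.ofId L C).comp (f * g).ofConv) = _
    rw [AlgHom.comp_convMul_distrib]

/-- **Finite index**: in an algebraic group, some positive power of every point lies in a given
open and closed subset containing the unit. -/
theorem exists_pow_apply_eq_zero (hft : Algebra.FiniteType L C) (e : C) (he : IsIdempotentElem e)
    (he0 : counit (R := L) e = 0) (h : WithConv (C →ₐ[L] L)) :
    ∃ r : ℕ, 0 < r ∧ (h ^ r).ofConv e = 0 := by
  haveI := hft
  haveI : IsNoetherianRing C := Algebra.FiniteType.isNoetherianRing L C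
  let v : ℕ → C := fun i => trP ((h ^ i)⁻¹).ofConv (1 - e)
  let I : ℕ →o Ideal C :=
    ⟨fun j => Ideal.span {x | ∃ i, i ≤ j ∧ v i = x}, by
      intro j₁ j₂ hj
      apply Ideal.span_mono
      rintro x ⟨i, hi, hx⟩
      exact ⟨i, hi.trans hj, hx⟩⟩
  obtain ⟨j, hj⟩ := monotone_stabilizes_iff_noetherian.mpr (inferInstance : IsNoetherian C C) I
  have hmem : v (j + 1) ∈ I j := by
    rw [hj (j + 1) (Nat.le_succ j)]
    exact Ideal.subset_span ⟨j + 1, le_rfl, rfl⟩
  by_contra hcon
  push Not at hcon
  have hone : ∀ r : ℕ, 0 < r → (h ^ r).ofConv e = 1 := by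
    intro r hr
    have hid : IsIdempotentElem ((h ^ r).ofConv e) := he.map (h ^ r).ofConv
    rcases IsIdempotentElem.iff_eq_zero_or_one.mp hid with h0 | h1
    · exact absurd h0 (hcon r hr)
    · exact h1
  have hle : I j ≤ RingHom.ker (h ^ (j + 1)).ofConv := by
    show Ideal.span _ ≤ _
    rw [Ideal.span_le]
    rintro x ⟨i, hi, rfl⟩
    rw [SetLike.mem_coe, RingHom.mem_ker]
    show (h ^ (j + 1)).ofConv (trP ((h ^ i)⁻¹).ofConv (1 - e)) = 0
    rw [apply_trP]
    have e1 : (h ^ i)⁻¹ * h ^ (j + 1) = h ^ (j + 1 - i) := by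
      rw [inv_mul_eq_iff_eq_mul, ← pow_add]
      congr 1
      omega
    rw [e1, map_sub, map_one, hone _ (by omega), sub_self]
  have h0 := hle hmem
  rw [RingHom.mem_ker] at h0
  have h1 : (h ^ (j + 1)).ofConv (v (j + 1)) = 1 := by
    show (h ^ (j + 1)).ofConv (trP ((h ^ (j + 1))⁻¹).ofConv (1 - e)) = 1
    rw [apply_trP, inv_mul_cancel, map_sub, map_one, one_apply, he0, sub_zero]
  rw [h1] at h0
  exact one_ne_zero h0

/-- Every point of a commutative algebraic group `H` over an algebraically closed field is
congruent to a torsion point modulo an open subgroup of multiplicative type. -/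
theorem exists_torsion_translate [IsAlgClosed L] [IsCocomm L C] (hft : Algebra.FiniteType L C)
    (hA : IsMultType L A) (π : C →ₐc[L] A) (hπ : Function.Surjective π) (e : C)
    (he : IsIdempotentElem e) (hπe : π e = 0) (hker : ∀ z, π z = 0 → (1 - e) * z = 0)
    (h : WithConv (C →ₐ[L] L)) :
    ∃ (t : WithConv (C →ₐ[L] L)) (N : ℕ), 0 < N ∧ t ^ N = 1 ∧ (t⁻¹ * h).ofConv e = 0 := by
  haveI := hft
  have hftA : Algebra.FiniteType L A :=
    Algebra.FiniteType.of_surjective (π : C →ₐ[L] A) hπ
  have he0 : counit (R := L) e = 0 := by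
    have h1 : counit (R := L) (π e) = counit (R := L) e := CoalgHomClass.counit_comp_apply π e
    rw [← h1, hπe, map_zero]
  obtain ⟨r, hr, hre⟩ := exists_pow_apply_eq_zero hft e he he0 h
  have hH : RingHom.ker (π : C →ₐ[L] A).toRingHom ≤ RingHom.ker ((h ^ r).ofConv).toRingHom := by
    intro z hz
    rw [RingHom.mem_ker] at hz ⊢
    have hz' : π z = 0 := hz
    have h1 : z = e * z := by
      have h2 := hker z hz'
      have h3 : z = e * z + (1 - e) * z := by ring
      rw [h2, add_zero] at h3
      exact h3
    show (h ^ r).ofConv z = 0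
    rw [h1, map_mul, hre, zero_mul]
  let g₀ : A →ₐ[L] L := AlgHom.liftOfSurjective (π : C →ₐ[L] A) hπ (h ^ r).ofConv hH
  have hg₀ : pbHom π (toConv g₀) = h ^ r := by
    apply WithConv.ofConv_injective
    exact AlgHom.liftOfSurjective_comp (π : C →ₐ[L] A) hπ (h ^ r).ofConv hH
  obtain ⟨d, s, hs, hd⟩ := exists_point_div hftA hA (toConv g₀) r hr
  refine ⟨h * pbHom π d, r * s, Nat.mul_pos hr hs, ?_, ?_⟩
  · rw [pow_mul, mul_pow, ← hg₀, ← map_pow (pbHom π) d r, ← map_mul (pbHom π) (toConv g₀) (d ^ r),
      ← map_pow (pbHom π) (toConv g₀ * d ^ r) s, hd, map_one]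
  · have h1 : (h * pbHom π d)⁻¹ * h = pbHom π d⁻¹ := by
      rw [inv_mul_eq_iff_eq_mul, map_inv, mul_inv_cancel_right]
    rw [h1, pbHom_apply, hπe, map_zero]

/-- translation by a point killed by `n` commutes with the `n`-th power map -/
lemma trP_comp_powConv [IsCocomm L C] (t : WithConv (C →ₐ[L] L)) (n : ℕ) (ht : t ^ n = 1) :
    (trP t.ofConv).comp (powConv L C n) = powConv L C n := by
  rw [Groth.Agent.Helper2.OT.comp_powConv]
  have h1 : toConv (trP t.ofConv) = postHom t * toConv (AlgHom.id L C) := rfl
  rw [h1, mul_pow, ← map_pow, ht, map_one, one_mul]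
  rfl

/-- translation by a point killed by `n` preserves the ideal of the kernel of the `n`-th power
map -/
lemma trP_mem_torsionIdeal [IsCocomm L C] (t : WithConv (C →ₐ[L] L)) (n : ℕ) (ht : t ^ n = 1)
    {y : C} (hy : y ∈ torsionIdeal L C n) : trP t.ofConv y ∈ torsionIdeal L C n := by
  have hle : torsionIdeal L C n ≤ Ideal.comap (trP t.ofConv) (torsionIdeal L C n) := by
    unfold torsionIdeal
    rw [Ideal.map_le_iff_le_comap]
    intro z hz
    rw [Ideal.mem_comap, Ideal.mem_comap]
    have h1 : trP t.ofConv (powConv L C n z) = powConv L C n z :=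
      congrArg (fun f : C →ₐ[L] C => f z) (trP_comp_powConv t n ht)
    rw [h1]
    exact Ideal.mem_map_of_mem _ hz
  exact hle hy

end

end Groth.Agent.Lib.Helper6.TorsOpen
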