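import Mathlib
import Groth.Prelude.Def_SGA3b
import Groth.Agent.Lib.Helper6.TorsOpen.O2
import Groth.Agent.Lib.Helper6.TorsDens2.A4
import Groth.Agent.Lib.Helper6.MTKer2.P4
import Groth.Agent.Lib.Helper6.IsoNil.IN1
import Groth.Agent.Lib.Helper6.TorsDense.TD1

/-!
# Density of the torsion in a commutative group with an open subgroup of multiplicative type,
part 3 (helper6)

Let `H = Spec C` be a commutative algebraic group over a field with an open subgroup `G` of
multiplicative type.  The kernels of the power maps of `H` are schematically dense in every basic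
open of `H`.  Over an algebraically closed field, every point of `H` lies in a translate of `G` by
a torsion point; the translation by such a point preserves the kernels of (suitable) power maps,
which reduces the density to that in `G`.
-/

set_option autoImplicit false
set_option linter.unusedSectionVars false
set_option linter.unusedVariables false
set_option linter.unusedSimpArgs false
set_option linter.style.haveILetI false
set_option linter.overlappingInstances false
set_option maxHeartbeats 800000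
set_option synthInstance.maxHeartbeats 400000

universe u
open TensorProduct SGA3b Coalgebra WithConv
open Groth.Agent.Helper2.HopfLib
open Groth.Agent.Lib.Helper6.MultType Groth.Agent.Lib.Helper6.TorsDense

namespace Groth.Agent.Lib.Helper6.TorsOpen

section Closed

variable {L : Type u} [Field L] {C : Type u} [CommRing C] [HopfAlgebra L C]
variable {A : Type u} [CommRing A] [HopfAlgebra L A]

/-- density of the torsion, elementwise form, over an algebraically closed field -/
theorem exists_pow_mul_eq_zero_closed [IsAlgClosed L] [IsCocomm L C]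
    (hft : Algebra.FiniteType L C) (hA : IsMultType L A) (π : C →ₐc[L] A)
    (hπ : Function.Surjective π) (e : C) (he : IsIdempotentElem e) (hπe : π e = 0)
    (hker : ∀ z, π z = 0 → (1 - e) * z = 0) (a x : C)
    (hyp : ∀ n : ℕ, 0 < n → ∃ m : ℕ, a ^ m * x ∈ torsionIdeal L C n) :
    ∃ m : ℕ, a ^ m * x = 0 := by
  classical
  haveI := hft
  have hftA : Algebra.FiniteType L A :=
    Algebra.FiniteType.of_surjective (π : C →ₐ[L] A) hπ
  let 𝔟 : Ideal C :=
    { carrier := {y | ∃ m : ℕ, a ^ m * (y * x) = 0}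
      zero_mem' := ⟨0, by rw [zero_mul, mul_zero]⟩
      add_mem' := by
        rintro y₁ y₂ ⟨m₁, h₁⟩ ⟨m₂, h₂⟩
        refine ⟨m₁ + m₂, ?_⟩
        have h3 : a ^ (m₁ + m₂) * ((y₁ + y₂) * x) =
            a ^ m₂ * (a ^ m₁ * (y₁ * x)) + a ^ m₁ * (a ^ m₂ * (y₂ * x)) := by ring
        rw [h3, h₁, h₂, mul_zero, mul_zero, add_zero]
      smul_mem' := by
        rintro c y ⟨m, hm⟩
        refine ⟨m, ?_⟩
        have h3 : a ^ m * (c • y * x) = c * (a ^ m * (y * x)) := by
          rw [smul_eq_mul]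
          ring
        rw [h3, hm, mul_zero] }
  have h𝔟 : ∀ y, y ∈ 𝔟 ↔ ∃ m : ℕ, a ^ m * (y * x) = 0 := fun y => Iff.rfl
  suffices htop : 𝔟 = ⊤ by
    have h1 : (1 : C) ∈ 𝔟 := by
      rw [htop]
      trivial
    obtain ⟨m, hm⟩ := (h𝔟 1).mp h1
    exact ⟨m, by rwa [one_mul] at hm⟩
  by_contra hne
  obtain ⟨𝔪, h𝔪, hle⟩ := Ideal.exists_le_maximal 𝔟 hne
  haveI := h𝔪
  obtain ⟨h₀, hh₀⟩ := Groth.Agent.Helper2.Sep.exists_algHom_ker_eq (k := L) 𝔪
  obtain ⟨t, N, hN, htN, hte⟩ :=
    exists_torsion_translate hft hA π hπ e he hπe hker (toConv h₀)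
  have hτ' : ∀ c, trP (t⁻¹).ofConv (trP t.ofConv c) = c := by
    intro c
    exact congrArg (fun f : C →ₐ[L] C => f c) (trP_inv_comp t.ofConv)
  have hyp' : ∀ n : ℕ, 0 < n →
      ∃ m : ℕ, (trP t.ofConv a) ^ m * trP t.ofConv x ∈ torsionIdeal L C n := by
    intro n hn
    obtain ⟨m, hm⟩ := hyp (n * N) (Nat.mul_pos hn hN)
    refine ⟨m, ?_⟩
    have h1 : trP t.ofConv (a ^ m * x) ∈ torsionIdeal L C (n * N) :=
      trP_mem_torsionIdeal t (n * N) (by rw [mul_comm, pow_mul, htN, one_pow]) hm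
    rw [map_mul, map_pow] at h1
    exact torsionIdeal_mul_le n N h1
  have hypA : ∀ n : ℕ, 0 < n →
      ∃ m : ℕ, (π (trP t.ofConv a)) ^ m * π (trP t.ofConv x) ∈ torsionIdeal L A n := by
    intro n hn
    obtain ⟨m, hm⟩ := hyp' n hn
    refine ⟨m, ?_⟩
    have h1 := bialgHom_mem_torsionIdeal π n hm
    rwa [map_mul, map_pow] at h1
  obtain ⟨m, hm⟩ := Groth.Agent.Lib.Helper6.TorsDens2.exists_pow_mul_eq_zero L A hftA hA _ _ hypA
  have h2 : (1 - e) * ((trP t.ofConv a) ^ m * trP t.ofConv x) = 0 :=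
    hker _ (by rw [map_mul, map_pow]; exact hm)
  have h3 := congrArg (trP (t⁻¹).ofConv) h2
  rw [map_mul, map_mul, map_pow, hτ', hτ', map_zero] at h3
  have hf : trP (t⁻¹).ofConv (1 - e) ∈ 𝔟 := by
    refine ⟨m, ?_⟩
    rw [show a ^ m * (trP (t⁻¹).ofConv (1 - e) * x) =
      trP (t⁻¹).ofConv (1 - e) * (a ^ m * x) by ring]
    exact h3
  have h4 := hle hf
  rw [← hh₀, RingHom.mem_ker] at h4
  have h5 : h₀ (trP (t⁻¹).ofConv (1 - e)) = (t⁻¹ * toConv h₀).ofConv (1 - e) :=
    congrArg (fun f : C →ₐ[L] L => f (1 - e)) (comp_trP h₀ (t⁻¹).ofConv)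
  rw [h5, map_sub, map_one, hte, sub_zero] at h4
  exact one_ne_zero h4

end Closed

section Field

variable {k : Type u} [Field k] {C : Type u} [CommRing C] [HopfAlgebra k C]
variable {A : Type u} [CommRing A] [HopfAlgebra k A]

/-- density of the torsion, elementwise form, over a field: reduction to an algebraically closed
extension -/
theorem exists_pow_mul_eq_zero_of_open [IsCocomm k C] (hft : Algebra.FiniteType k C)
    (hA : IsMultType k A) (q : C →ₐc[k] A) (hq : Function.Surjective q) (e : C)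
    (he : IsIdempotentElem e) (hqe : q e = 0) (hkq : ∀ z, q z = 0 → (1 - e) * z = 0)
    (L : Type u) [Field L] [Algebra k L] [IsAlgClosed L] (a x : C)
    (hyp : ∀ n : ℕ, 0 < n → ∃ m : ℕ, a ^ m * x ∈ torsionIdeal k C n) :
    ∃ m : ℕ, a ^ m * x = 0 := by
  haveI := hft
  let π : L ⊗[k] C →ₐc[L] L ⊗[k] A := Bialgebra.TensorProduct.map (BialgHom.id L L) q
  have hπ : Function.Surjective π := Groth.Agent.Lib.Helper6.MTKer2.map_surj q L hq
  have hA' : IsMultType L (L ⊗[k] A) :=
    Groth.Agent.Lib.Helper6.IsoNil.IsMultType.baseChange hA L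
  have hft' : Algebra.FiniteType L (L ⊗[k] C) := inferInstance
  have he' : IsIdempotentElem ((1 : L) ⊗ₜ[k] e) := by
    show ((1 : L) ⊗ₜ[k] e) * ((1 : L) ⊗ₜ[k] e) = (1 : L) ⊗ₜ[k] e
    rw [Algebra.TensorProduct.tmul_mul_tmul, one_mul, he.eq]
  have hπe : π ((1 : L) ⊗ₜ[k] e) = 0 := by
    have h1 : π ((1 : L) ⊗ₜ[k] e) = (1 : L) ⊗ₜ[k] q e := rfl
    rw [h1, hqe, TensorProduct.tmul_zero]
  have hker : ∀ z, π z = 0 → (1 - (1 : L) ⊗ₜ[k] e) * z = 0 := by
    intro z hz
    have hz' : z ∈ RingHom.ker (Algebra.TensorProduct.map (AlgHom.id k L)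
        (q : C →ₐ[k] A)) := by
      rw [RingHom.mem_ker]
      exact hz
    have hqs : Function.Surjective (q : C →ₐ[k] A) := hq
    rw [Algebra.TensorProduct.lTensor_ker _ hqs] at hz'
    have hle : Ideal.map (Algebra.TensorProduct.includeRight : C →ₐ[k] L ⊗[k] C)
        (RingHom.ker (q : C →ₐ[k] A)) ≤ Ideal.span {(1 : L) ⊗ₜ[k] e} := by
      rw [Ideal.map_le_iff_le_comap]
      intro c hc
      rw [RingHom.mem_ker] at hc
      have hc' : q c = 0 := hc
      have h1 : c = c * e := by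
        have h2 := hkq c hc'
        have h3 : c = c * e + (1 - e) * c := by ring
        rw [h2, add_zero] at h3
        exact h3
      rw [Ideal.mem_comap, Ideal.mem_span_singleton']
      refine ⟨(1 : L) ⊗ₜ[k] c, ?_⟩
      show ((1 : L) ⊗ₜ[k] c) * ((1 : L) ⊗ₜ[k] e) = (1 : L) ⊗ₜ[k] c
      rw [Algebra.TensorProduct.tmul_mul_tmul, one_mul, ← h1]
    obtain ⟨c, hc⟩ := Ideal.mem_span_singleton'.mp (hle hz')
    rw [← hc]
    have h4 : (1 - (1 : L) ⊗ₜ[k] e) * (c * (1 : L) ⊗ₜ[k] e) =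
        c * ((1 : L) ⊗ₜ[k] e - ((1 : L) ⊗ₜ[k] e) * ((1 : L) ⊗ₜ[k] e)) := by ring
    rw [h4, he'.eq, sub_self, mul_zero]
  have hpow : ∀ m : ℕ, (1 : L) ⊗ₜ[k] (a ^ m * x) =
      ((1 : L) ⊗ₜ[k] a) ^ m * ((1 : L) ⊗ₜ[k] x) := by
    intro m
    rw [Algebra.TensorProduct.tmul_pow, one_pow, Algebra.TensorProduct.tmul_mul_tmul, one_mul]
  have hyp' : ∀ n : ℕ, 0 < n → ∃ m : ℕ,
      ((1 : L) ⊗ₜ[k] a) ^ m * ((1 : L) ⊗ₜ[k] x) ∈ torsionIdeal L (L ⊗[k] C) n := by
    intro n hn
    obtain ⟨m, hm⟩ := hyp n hn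
    refine ⟨m, ?_⟩
    rw [← hpow m]
    exact one_tmul_mem_torsionIdeal L n hm
  obtain ⟨m, hm⟩ := exists_pow_mul_eq_zero_closed hft' hA' π hπ _ he' hπe hker _ _ hyp'
  refine ⟨m, ?_⟩
  have hinj : Function.Injective (Algebra.TensorProduct.includeRight : C →ₐ[k] L ⊗[k] C) :=
    Algebra.TensorProduct.includeRight_injective (A := L) (B := C) (algebraMap k L).injective
  apply hinj
  rw [map_zero]
  show (1 : L) ⊗ₜ[k] (a ^ m * x) = 0
  rw [hpow m]
  exact hm

end Field

section Main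

/-- **Schematic density of the torsion** in the basic opens of a commutative algebraic group with
an open subgroup of multiplicative type. -/
theorem iInf_map_torsionIdeal_eq_bot_of_open (k : Type u) [Field k] (C : Type u) [CommRing C]
    [HopfAlgebra k C] [Coalgebra.IsCocomm k C] (hft : Algebra.FiniteType k C)
    (e : C) (he : IsIdempotentElem e) [(Ideal.span {e}).IsHopfIdeal k]
    (hG : IsMultType k (C ⧸ Ideal.span {e})) (a : C) :
    ⨅ n : {n : ℕ // 0 < n},
      Ideal.map (algebraMap C (Localization.Away a)) (torsionIdeal k C n.1) = ⊥ := by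
  have hq : Function.Surjective (Bialgebra.Quotient.mkBialgHom (R := k) (Ideal.span {e})) :=
    Ideal.Quotient.mk_surjective
  have hqe : Bialgebra.Quotient.mkBialgHom (R := k) (Ideal.span {e}) e = 0 :=
    Ideal.Quotient.eq_zero_iff_mem.mpr (Ideal.mem_span_singleton_self e)
  have hkq : ∀ z, Bialgebra.Quotient.mkBialgHom (R := k) (Ideal.span {e}) z = 0 →
      (1 - e) * z = 0 := by
    intro z hz
    have hz' : z ∈ Ideal.span {e} := Ideal.Quotient.eq_zero_iff_mem.mp hz
    obtain ⟨c, rfl⟩ := Ideal.mem_span_singleton'.mp hz'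
    have h4 : (1 - e) * (c * e) = c * (e - e * e) := by ring
    rw [h4, he.eq, sub_self, mul_zero]
  rw [eq_bot_iff]
  intro x hx
  rw [Submodule.mem_iInf] at hx
  obtain ⟨y, s, rfl⟩ := IsLocalization.exists_mk'_eq (Submonoid.powers a) x
  have key : ∀ n : ℕ, 0 < n → ∃ m : ℕ, a ^ m * y ∈ torsionIdeal k C n := by
    intro n hn
    have h1 := hx ⟨n, hn⟩
    rw [IsLocalization.mem_map_algebraMap_iff (Submonoid.powers a)] at h1
    obtain ⟨⟨i, s'⟩, h2⟩ := h1
    have h3 : algebraMap C (Localization.Away a) (y * s') =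
        algebraMap C (Localization.Away a) (i * s) := by
      rw [map_mul, map_mul, ← h2, mul_right_comm, IsLocalization.mk'_spec]
    obtain ⟨c, hc⟩ := (IsLocalization.eq_iff_exists (Submonoid.powers a) _).mp h3
    obtain ⟨k₁, hk₁⟩ := (Submonoid.mem_powers_iff _ _).mp c.2
    obtain ⟨k₂, hk₂⟩ := (Submonoid.mem_powers_iff _ _).mp s'.2
    refine ⟨k₁ + k₂, ?_⟩
    have h4 : a ^ (k₁ + k₂) * y = c * (i * s) := by
      rw [← hc, pow_add, hk₁, hk₂]
      ring
    rw [h4]
    exact Ideal.mul_mem_left _ _ (Ideal.mul_mem_right _ _ i.2)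
  obtain ⟨m, hm⟩ := exists_pow_mul_eq_zero_of_open hft hG
    (Bialgebra.Quotient.mkBialgHom (R := k) (Ideal.span {e})) hq e he hqe hkq
    (AlgebraicClosure k) a y key
  rw [Submodule.mem_bot, IsLocalization.mk'_eq_zero_iff]
  exact ⟨⟨a ^ m, m, rfl⟩, hm⟩

end Main

end Groth.Agent.Lib.Helper6.TorsOpen
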